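import Groth.Agent.AlgSpBoot.EtaleTop
import Groth.Agent.AlgSpBasic.Quotient

/-!
# Etale sheaves with an etale chart are algebraic spaces
-/

set_option autoImplicit false
set_option backward.isDefEq.respectTransparency.types false
universe u

open CategoryTheory CategoryTheory.Limits AlgebraicGeometry Opposite AlgSp
open Groth.AlgSpBasic (pEquiv)

namespace Groth.AlgSpBoot

noncomputable section

variable {S : Scheme.{u}} {F : PSp S} {R W : Over S} {s t : R ⟶ W} {p : (pyon S).obj W ⟶ F}

/-- The sections of `F` given by maps into a chart. -/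
abbrev secOf (p : (pyon S).obj W ⟶ F) {T : Over S} (a : T ⟶ W) : F.obj (op T) :=
  p.app (op T) ⟨a⟩

theorem secOf_eq_iff (sq : IsPullback ((pyon S).map t) ((pyon S).map s) p p) {T : Over S}
    (a b : T ⟶ W) : secOf p a = secOf p b ↔ ∃ r : T ⟶ R, r ≫ t = a ∧ r ≫ s = b := by
  constructor
  · intro h
    have w : (pyon S).map a ≫ p = (pyon S).map b ≫ p := by
      apply pEquiv.injective
      simpa [pEquiv, uliftYonedaEquiv, secOf] using h
    obtain ⟨r, hr⟩ := (pyon S).map_surjective (sq.lift _ _ w)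
    refine ⟨r, (pyon S).map_injective ?_, (pyon S).map_injective ?_⟩
    · rw [Functor.map_comp, hr, sq.lift_fst]
    · rw [Functor.map_comp, hr, sq.lift_snd]
  · rintro ⟨r, rfl, rfl⟩
    exact congr(($(sq.w)).app (op T) ⟨r⟩)

theorem isEqvRel_of_secOf (sq : IsPullback ((pyon S).map t) ((pyon S).map s) p p) : IsEqvRel s t where
  injective T r r' h₁ h₂ := (pyon S).map_injective (sq.hom_ext
    (by rw [← Functor.map_comp, ← Functor.map_comp, h₁])
    (by rw [← Functor.map_comp, ← Functor.map_comp, h₂]))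
  equivalence T :=
    { refl := fun a => (secOf_eq_iff sq a a).1 rfl
      symm := fun {a b} h => (secOf_eq_iff sq b a).1 ((secOf_eq_iff sq a b).2 h).symm
      trans := fun {a b c} h₁ h₂ =>
        (secOf_eq_iff sq a c).1 (((secOf_eq_iff sq a b).2 h₁).trans ((secOf_eq_iff sq b c).2 h₂)) }

theorem secOf_map {T T' : Over S} (i : T' ⟶ T) (a : T ⟶ W) :
    F.map i.op (secOf p a) = secOf p (i ≫ a) :=
  (NatTrans.naturality_apply p i.op _).symm

/-- An etale sheaf with a chart whose self fibre product is an etale equivalence relation, the chart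
being surjective as a map of etale sheaves, is an algebraic space with this chart as etale atlas. -/
theorem exists_isAlgSpace_of_etale_chart (hF : Presheaf.IsSheaf (Jet S) F) [Etale s.left] [Etale t.left]
    (sq : IsPullback ((pyon S).map t) ((pyon S).map s) p p)
    (hloc : Presheaf.IsLocallySurjective (Jet S) p) :
    ∃ h : Presheaf.IsSheaf (J S) F, IsAlgSpace (⟨F, h⟩ : Sp S) ∧
      RepWith @Etale (ObjectProperty.homMk p : (yon S).obj W ⟶ ⟨F, h⟩) ∧
      RepWith @Surjective (ObjectProperty.homMk p : (yon S).obj W ⟶ ⟨F, h⟩) := by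
  have hR := isEqvRel_of_secOf sq
  let Q : Sp S := QuotSh.quot Scheme.fppfPrecoverage s t
  let π : (yon S).obj W ⟶ Q := Groth.AlgSpBasic.yonQuotπ s t
  have := Groth.AlgSpBasic.isLocallySurjective_yonQuotπ s t
  obtain ⟨hQ, hπe, hπs⟩ :=
    Groth.AlgSpBasic.isAlgSpace_of_kernelPair (Groth.AlgSpBasic.isPullback_yonQuot hR)
  have hQet := (isSheaf_iff_isSheaf_of_type _ _).1 (isSheaf_Jet Q.property)
  have hF' := (isSheaf_iff_isSheaf_of_type _ _).1 hF
  have sqQ : IsPullback ((pyon S).map t) ((pyon S).map s) π.hom π.hom :=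
    (Groth.AlgSpBasic.isPullback_yonQuot hR).map (sheafToPresheaf (J S) (Type (u + 1)))
  have hiff : ∀ {T : Over S} (a b : T ⟶ W), secOf p a = secOf p b ↔ secOf π.hom a = secOf π.hom b :=
    fun a b => (secOf_eq_iff sq a b).trans (secOf_eq_iff sqQ a b).symm
  -- the comparison map
  have hex : ∀ (T : Over S) (ξ : F.obj (op T)), ∃! q : Q.obj.obj (op T),
      ∀ (T' : Over S) (i : T' ⟶ T) (a : T' ⟶ W), F.map i.op ξ = secOf p a →
        Q.obj.map i.op q = secOf π.hom a := by
    intro T ξ
    let C : Sieve T := Presheaf.imageSieve p ξ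
    have hC : C ∈ Jet S T := Presheaf.imageSieve_mem (Jet S) p ξ
    choose l hl using fun (T' : Over S) (i : T' ⟶ T) (hi : C i) => (show ∃ a : T' ⟶ W,
      F.map i.op ξ = secOf p a from ⟨hi.choose.down, hi.choose_spec.symm⟩)
    let x : Presieve.FamilyOfElements Q.obj C.arrows := fun T' i hi => secOf π.hom (l T' i hi)
    have hx : x.Compatible := by
      intro T₁ T₂ Z g₁ g₂ i₁ i₂ h₁ h₂ e
      rw [secOf_map, secOf_map, ← hiff, ← secOf_map, ← secOf_map, ← hl _ _ h₁, ← hl _ _ h₂,
        ← Functor.map_comp_apply, ← Functor.map_comp_apply, ← op_comp, ← op_comp, e]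
    refine ⟨(hQet C hC).amalgamate x hx, fun T' i a ha => ?_, fun q hq => ?_⟩
    · have hi : C i := ⟨⟨a⟩, ha.symm⟩
      rw [(hQet C hC).valid_glue hx i hi]
      exact (hiff _ _).1 ((hl _ _ hi).symm.trans ha)
    · exact (hQet C hC).isSeparatedFor.ext fun T' i hi => by
        rw [hq T' i _ (hl _ _ hi), (hQet C hC).valid_glue hx i hi]
  choose Φ hΦ hΦu using hex
  let φ : F ⟶ Q.obj :=
    { app := fun T => TypeCat.ofHom (Φ T.unop)
      naturality := fun T T' g => by
        ext ξ
        refine (hΦu T'.unop (F.map g ξ) _ fun T'' i a ha => ?_).symm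
        change Q.obj.map i.op (Q.obj.map g (Φ T.unop ξ)) = _
        rw [← Functor.map_comp_apply]
        refine hΦ T.unop ξ T'' (i ≫ g.unop) a ?_
        rwa [op_comp, Quiver.Hom.op_unop, Functor.map_comp_apply] }
  have hφp : p ≫ φ = π.hom := by
    ext T ⟨a⟩
    have := hΦ T.unop (secOf p a) T.unop (𝟙 _) a (by simp)
    refine Eq.trans ?_ (this.trans (by simp))
    exact (ConcreteCategory.congr_hom (Q.obj.map_id T) _).symm
  have hbij : ∀ T, Function.Bijective (Φ T) := by
    intro T
    constructor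
    · intro ξ ξ' e
      let C : Sieve T := Presheaf.imageSieve p ξ ⊓ Presheaf.imageSieve p ξ'
      have hC : C ∈ Jet S T := GrothendieckTopology.intersection_covering _
        (Presheaf.imageSieve_mem (Jet S) p ξ) (Presheaf.imageSieve_mem (Jet S) p ξ')
      refine (hF' C hC).isSeparatedFor.ext fun T' i hi => ?_
      obtain ⟨⟨⟨a⟩, ha⟩, ⟨⟨b⟩, hb⟩⟩ := hi
      have ha' : secOf p a = F.map i.op ξ := ha
      have hb' : secOf p b = F.map i.op ξ' := hb
      rw [← ha', ← hb', hiff, ← hΦ T ξ T' i a ha'.symm, ← hΦ T ξ' T' i b hb'.symm, e]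
    · intro q
      let g : (yon S).obj T ⟶ Q := (J S).uliftYonedaEquiv.{u + 1}.symm q
      obtain ⟨V, snd, fst, sqg⟩ := hπe.rep g
      obtain ⟨a, rfl⟩ := (yon S).map_surjective fst
      have : Etale snd.left := hπe.property g _ snd sqg
      have : Surjective snd.left := hπs.property g _ snd sqg
      let C : Sieve T := Sieve.generate (Presieve.singleton snd)
      have hC : C ∈ Jet S T :=
        mem_Jet_of_surjective snd ⟨V, 𝟙 V, snd, ⟨⟩, Category.id_comp snd⟩
      have hC' := hF' C hC
      have hq : Q.obj.map snd.op q = secOf π.hom a := by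
        have e := congrArg (J S).uliftYonedaEquiv.{u + 1} sqg.w
        have h1 : Q.obj.map snd.op q = (J S).uliftYonedaEquiv.{u + 1} ((yon S).map snd ≫ g) := by
          conv_lhs => rw [← (J S).uliftYonedaEquiv.{u + 1}.apply_symm_apply q]
          exact GrothendieckTopology.uliftYonedaEquiv_naturality.{u + 1} _ g snd
        refine h1.trans (e.symm.trans ?_)
        exact (GrothendieckTopology.uliftYonedaEquiv_comp.{u + 1} _ _ π).trans rfl
      have hS := (Presieve.isSheafFor_iff_generate (R := Presieve.singleton snd) (P := F)).2 hC'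
      obtain ⟨ξ, hξ, -⟩ := (Presieve.isSheafFor_singleton (P := F) (f := snd)).1 hS (secOf p a)
        (fun {Z} g₁ g₂ e => by
          rw [secOf_map, secOf_map, hiff, ← secOf_map, ← secOf_map, ← hq, ← Functor.map_comp_apply,
            ← Functor.map_comp_apply, ← op_comp, ← op_comp, e])
      refine ⟨ξ, ?_⟩
      refine (hQet C hC).isSeparatedFor.ext fun T' i hi => ?_
      obtain ⟨V', k, _, ⟨⟩, rfl⟩ := hi
      rw [op_comp, Functor.map_comp_apply, Functor.map_comp_apply]
      congr 1
      rw [hΦ T ξ V snd a hξ, hq]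
  have : IsIso φ := by
    have : ∀ T, IsIso (φ.app T) := fun T => (isIso_iff_bijective _).2 (hbij T.unop)
    exact NatIso.isIso_of_isIso_app φ
  have hsheaf : Presheaf.IsSheaf (J S) F := (Presheaf.isSheaf_of_iso_iff (asIso φ)).2 Q.property
  let E : (⟨F, hsheaf⟩ : Sp S) ≅ Q :=
    (fullyFaithfulSheafToPresheaf (J S) _).preimageIso (X := (⟨F, hsheaf⟩ : Sp S)) (Y := Q) (asIso φ)
  have hpE : (ObjectProperty.homMk p : (yon S).obj W ⟶ ⟨F, hsheaf⟩) = π ≫ E.inv := by
    rw [Iso.eq_comp_inv]
    exact ObjectProperty.hom_ext _ hφp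
  refine ⟨hsheaf, hQ.of_iso E.symm, ?_, ?_⟩
  · rw [hpE]
    exact (MorphismProperty.cancel_right_of_respectsIso (RepWith (S := S) @Etale) π E.inv).2 hπe
  · rw [hpE]
    exact (MorphismProperty.cancel_right_of_respectsIso (RepWith (S := S) @Surjective) π E.inv).2 hπs

end

end Groth.AlgSpBoot
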