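import Groth.Prelude.Def_AlgSpRep
import Groth.Agent.AlgSpBasic.Presheaf

/-!
# The etale topology on schemes over a base
-/

set_option autoImplicit false
set_option backward.isDefEq.respectTransparency.types false
universe u

open CategoryTheory CategoryTheory.Limits AlgebraicGeometry Opposite AlgSp

namespace Groth.AlgSpBoot

variable {S : Scheme.{u}}

/-- The big etale topology over `S`. -/
abbrev Jet (S : Scheme.{u}) : GrothendieckTopology (Over S) := QuotSh.J Scheme.etalePrecoverage S

/-- A sieve containing etale maps jointly covering every point is an etale covering sieve. -/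
theorem mem_Jet_of_forall {X : Over S} {R : Sieve X}
    (h : ∀ x : X.left, ∃ (V : Over S) (f : V ⟶ X), Etale f.left ∧ x ∈ Set.range f.left ∧ R f) :
    R ∈ Jet S X := by
  rw [GrothendieckTopology.mem_over_iff]
  choose V f hf hx hR using h
  have hC : Presieve.ofArrows (fun x => (V x).left) (fun x => (f x).left) ∈
      Scheme.etalePrecoverage X.left := by
    rw [Scheme.etalePrecoverage, Scheme.ofArrows_mem_precoverage_iff]
    exact ⟨fun x => ⟨x, (hx x).choose, (hx x).choose_spec⟩, hf⟩
  refine GrothendieckTopology.superset_covering _ ?_ (Precoverage.generate_mem_toGrothendieck hC)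
  rw [Sieve.generate_le_iff]
  rintro _ _ ⟨x⟩
  exact ⟨V x, f x, 𝟙 _, hR x, by simp⟩

/-- A sieve containing an etale surjection is an etale covering sieve. -/
theorem mem_Jet_of_surjective {X V : Over S} {R : Sieve X} (f : V ⟶ X) [Etale f.left]
    [Surjective f.left] (h : R f) : R ∈ Jet S X :=
  mem_Jet_of_forall fun x => ⟨V, f, inferInstance, f.left.surjective x, h⟩

theorem etalePrecoverage_le_fppfPrecoverage :
    (Scheme.etalePrecoverage.{u}) ≤ Scheme.fppfPrecoverage := by
  apply Scheme.precoverage_mono
  intro X Y f hf
  have : Etale f := hf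
  exact ⟨inferInstanceAs (Flat f), inferInstanceAs (LocallyOfFinitePresentation f)⟩

/-- An fppf sheaf is an etale sheaf. -/
theorem isSheaf_Jet {F : PSp S} (hF : Presheaf.IsSheaf (J S) F) : Presheaf.IsSheaf (Jet S) F := by
  rw [isSheaf_iff_isSheaf_of_type] at hF ⊢
  refine Presieve.isSheaf_of_le _ ?_ hF
  intro X R hR
  rw [GrothendieckTopology.mem_over_iff] at hR ⊢
  exact Precoverage.toGrothendieck_mono etalePrecoverage_le_fppfPrecoverage _ hR

end Groth.AlgSpBoot
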