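import Groth.Agent.AlgSpBoot.EtaleChart
import Groth.Agent.SmoothSlice.EqvSlice
import Groth.Agent.AlgSpBasic.SepMono
import Groth.Agent.AlgSpBasic.Unramified
import Groth.Agent.AlgSpBasic.LocPInst
import Groth.Agent.AlgSpRep.Basic
import Groth.Prelude.Def_AlgSp4

/-!
# Etale sheaves with a smooth cover by an algebraic space are algebraic spaces
-/

set_option autoImplicit false
set_option backward.isDefEq.respectTransparency.types false
universe u

open CategoryTheory CategoryTheory.Limits AlgebraicGeometry Opposite AlgSp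
open Groth.AlgSpBasic (pEquiv)

namespace Groth.AlgSpBoot

noncomputable section

variable {S : Scheme.{u}} {F : PSp S}

instance : MorphismProperty.HasOfPostcompProperty @Smooth.{u}
    (@LocallyOfFiniteType.{u} ⊓ @FormallyUnramified.{u}) := by
  have : MorphismProperty.ContainsIdentities @Smooth.{u} :=
    ⟨fun X => inferInstanceAs (Smooth (𝟙 X))⟩
  have : MorphismProperty.IsMultiplicative @Smooth.{u} := ⟨⟩
  rw [MorphismProperty.hasOfPostcompProperty_iff_le_diagonal]
  intro X Y f ⟨hft, hfu⟩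
  exact inferInstanceAs <| Smooth (pullback.diagonal f)

theorem smooth_of_comp_etale {A B C : Scheme.{u}} (f : A ⟶ B) (g : B ⟶ C) [Etale g]
    [Smooth (f ≫ g)] : Smooth f :=
  MorphismProperty.of_postcomp @Smooth (W' := @LocallyOfFiniteType ⊓ @FormallyUnramified) f g
    ⟨inferInstance, inferInstance⟩ ‹_›

/-- A map of spaces over a scheme which is surjective and smooth gives smooth surjective scheme covers. -/
theorem smooth_surjective_of_chart {X : Sp S} {T W : Over S} {b : X ⟶ (yon S).obj T}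
    (hb : LocP @Smooth b) {v : (yon S).obj W ⟶ X} (hv : RepWith @Etale v) (l : W ⟶ T)
    (hl : v ≫ b = (yon S).map l) :
    Smooth l.left ∧ (IsSurjectiveMor b → RepWith @Surjective v → Surjective l.left) := by
  refine ⟨hb v (𝟙 _) l hv (repWith_id _ _) (by rw [hl, Category.comp_id]), fun hs hvs => ⟨fun t => ?_⟩⟩
  obtain ⟨x, hx⟩ := hs (Points.ofPt (𝟙 _) t)
  obtain ⟨w, rfl⟩ := Groth.AlgSpBasic.surjective_ofPt_of_repWith hvs x
  refine ⟨w, ?_⟩
  rw [Points.map_ofPt, hl] at hx
  have h := congrArg (Points.toScheme T) hx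
  rw [Points.toScheme_ofPt, ← (yon S).map_id, Points.toScheme_ofPt] at h
  simpa using h

variable {U : AlgSp.Space S} {p : U.obj.obj ⟶ F}

/-- Smooth-local lifts of sections along a smooth cover. -/
theorem exists_smooth_lift {U₀ : Over S} {a : (yon S).obj U₀ ⟶ U.obj}
    (hae : RepWith @Etale a) (has : RepWith @Surjective a)
    (hp : RepBySpWith (IsSurjectiveMor ⊓ LocP @Smooth) p) {T : Over S} (ξ : F.obj (op T)) :
    ∃ (W : Over S) (l : W ⟶ T) (α : W ⟶ U₀), Smooth l.left ∧ Surjective l.left ∧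
      secOf (a.hom ≫ p) α = F.map l.op ξ := by
  obtain ⟨hV, hVsp, hVs, hVsm⟩ := hp (pEquiv.symm ξ) _ _ (IsPullback.of_hasPullback p (pEquiv.symm ξ))
  let V : Sp S := ⟨pullback p (pEquiv.symm ξ), hV⟩
  let f : V ⟶ U.obj := ObjectProperty.homMk (pullback.fst p (pEquiv.symm ξ))
  let b : V ⟶ (yon S).obj T := ObjectProperty.homMk (pullback.snd p (pEquiv.symm ξ))
  obtain ⟨W₁, v, hve, hvs⟩ := hVsp.atlas
  obtain ⟨W₂, snd, fst, sq⟩ := hae.rep (v ≫ f)
  obtain ⟨α, rfl⟩ := (yon S).map_surjective fst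
  let v' : (yon S).obj W₂ ⟶ V := (yon S).map snd ≫ v
  have hv'e : RepWith @Etale v' := Groth.AlgSpBasic.repWith_comp
    ((repWith_yon_map_iff _ snd).2 (hae.property _ _ snd sq)) hve
  have hv's : RepWith @Surjective v' := Groth.AlgSpBasic.repWith_comp
    ((repWith_yon_map_iff _ snd).2 (has.property _ _ snd sq)) hvs
  obtain ⟨l, hl⟩ := (yon S).map_surjective (v' ≫ b)
  obtain ⟨h₁, h₂⟩ := smooth_surjective_of_chart (b := b) hVsm hv'e l hl.symm
  refine ⟨W₂, l, α, h₁, h₂ hVs hv's, ?_⟩
  have e : (pyon S).map α ≫ a.hom ≫ p = (pyon S).map l ≫ pEquiv.symm ξ := by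
    have e₁ : (pyon S).map α ≫ a.hom = v'.hom ≫ f.hom :=
      congrArg InducedCategory.Hom.hom (sq.w.trans (Category.assoc _ _ _).symm)
    have e₂ : ((yon S).map l).hom = v'.hom ≫ b.hom :=
      (congrArg (fun k : (yon S).obj W₂ ⟶ (yon S).obj T => k.hom) hl).trans rfl
    refine (Category.assoc _ _ _).symm.trans ((congrArg (· ≫ p) e₁).trans ?_)
    refine Eq.trans ?_ (congrArg (· ≫ pEquiv.symm ξ) e₂).symm
    refine (Category.assoc _ _ _).trans ((congrArg (v'.hom ≫ ·) pullback.condition).trans ?_)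
    exact (Category.assoc _ _ _).symm
  rw [← Groth.AlgSpBasic.pEquiv_symm_map] at e
  have e' := congrArg pEquiv e
  rw [Equiv.apply_symm_apply] at e'
  rw [← e']
  simp [pEquiv, uliftYonedaEquiv, secOf]

/-- The self fibre product of a smooth scheme chart is a smooth equivalence relation of schemes. -/
theorem exists_smooth_rel {U₀ : Over S} {a : (yon S).obj U₀ ⟶ U.obj}
    (hae : RepWith @Etale a) (hp : RepBySpWith (IsSurjectiveMor ⊓ LocP @Smooth) p) :
    ∃ (R : Over S) (t s : R ⟶ U₀),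
      IsPullback ((pyon S).map t) ((pyon S).map s) (a.hom ≫ p) (a.hom ≫ p) ∧
        Groth.SmoothSlice.SmoothRel s.left t.left := by
  let q : (pyon S).obj U₀ ⟶ F := a.hom ≫ p
  obtain ⟨hV, hVsp, -, hVsm⟩ := hp q _ _ (IsPullback.of_hasPullback p q)
  let V : Sp S := ⟨pullback p q, hV⟩
  let f : V ⟶ U.obj := ObjectProperty.homMk (pullback.fst p q)
  let b : V ⟶ (yon S).obj U₀ := ObjectProperty.homMk (pullback.snd p q)
  have hUd : Representable (Limits.diag U.obj) := U.property.diag
  have sqZ := IsPullback.of_hasPullback a f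
  have hZ : IsAlgSpace (pullback a f) :=
    Groth.AlgSpBasic.isAlgSpace_of_isPullback sqZ hUd ((ofScheme S).obj U₀).property hVsp
  let Z : Sp S := pullback a f
  let r₁ : Z ⟶ (yon S).obj U₀ := pullback.fst a f
  let r₂ : Z ⟶ (yon S).obj U₀ := pullback.snd a f ≫ b
  have sqF : IsPullback r₁.hom r₂.hom q q :=
    ((sqZ.map (sheafToPresheaf (J S) (Type (u + 1)))).paste_vert (IsPullback.of_hasPullback p q))
  have hsm : LocP @Smooth r₂ := by
    intro W X v w h hv hw comm
    have hv' : RepWith @Etale (v ≫ pullback.snd a f) :=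
      Groth.AlgSpBasic.repWith_comp hv (Groth.AlgSpBasic.repWith_of_isPullback sqZ hae)
    obtain ⟨w', rfl⟩ := (yon S).map_surjective w
    have : Etale w'.left := (repWith_yon_map_iff _ w').1 hw
    have : Smooth ((h ≫ w').left) := hVsm _ (𝟙 _) (h ≫ w') hv' (repWith_id _ _) (by
      rw [Category.comp_id, Functor.map_comp, ← comm, Category.assoc])
    rw [Over.comp_left] at this
    exact smooth_of_comp_etale h.left w'.left
  let c : Z ⟶ (yon S).obj (U₀ ⨯ U₀) :=
    prod.lift r₁ r₂ ≫ inv (prodComparison (yon S) U₀ U₀)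
  have hc₁ : c ≫ (yon S).map prod.fst = r₁ := by
    rw [Category.assoc, ← prodComparison_fst, IsIso.inv_hom_id_assoc, prod.lift_fst]
  have hc₂ : c ≫ (yon S).map prod.snd = r₂ := by
    rw [Category.assoc, ← prodComparison_snd, IsIso.inv_hom_id_assoc, prod.lift_snd]
  have : Mono c := ⟨fun {T} x y e => ObjectProperty.hom_ext _ (sqF.hom_ext
    (by have := congrArg InducedCategory.Hom.hom (e =≫ (yon S).map prod.fst)
        simpa [hc₁] using this)
    (by have := congrArg InducedCategory.Hom.hom (e =≫ (yon S).map prod.snd)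
        simpa [hc₂] using this))⟩
  have hft : LocP @LocallyOfFiniteType c := by
    intro W X v w h hv hw comm
    obtain ⟨w', rfl⟩ := (yon S).map_surjective w
    have : Smooth ((h ≫ w' ≫ (prod.snd : U₀ ⨯ U₀ ⟶ U₀)).left) :=
      hsm v (𝟙 _) _ hv (repWith_id _ _) (by
        rw [Category.comp_id, Functor.map_comp, Functor.map_comp, ← hc₂, reassoc_of% comm])
    have : Smooth (h.left ≫ w'.left ≫ (prod.snd : U₀ ⨯ U₀ ⟶ U₀).left) := by
      simpa [Over.comp_left] using this
    exact locallyOfFiniteType_of_comp h.left (w'.left ≫ (prod.snd : U₀ ⨯ U₀ ⟶ U₀).left)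
  have hcd : RepWith @IsOpenImmersion (pullback.diagonal c) :=
    Groth.AlgSpBasic.repWith_isIso _
  have hqf : LocP (@LocallyQuasiFinite ⊓ @LocallyOfFiniteType) c := by
    intro W X v w h hv hw comm
    obtain ⟨h₁, h₂⟩ := Groth.AlgSpBasic.locP_unramified_of_diagonal hft hcd v w h hv hw comm
    have := h₁
    have := h₂
    exact ⟨Groth.AlgSpBasic.locallyQuasiFinite_of_formallyUnramified _, h₁⟩
  obtain ⟨R, ⟨e⟩⟩ := Groth.AlgSpBasic.exists_iso_of_lqf_of_mono hZ r₁ c
    (fun x y _ h => (cancel_mono c).1 h) hqf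
  obtain ⟨t, ht⟩ := (yon S).map_surjective (e.hom ≫ r₁)
  obtain ⟨s, hs⟩ := (yon S).map_surjective (e.hom ≫ r₂)
  have sqR : IsPullback ((pyon S).map t) ((pyon S).map s) q q :=
    sqF.of_iso ((sheafToPresheaf (J S) (Type (u + 1))).mapIso e).symm (Iso.refl _) (Iso.refl _) (Iso.refl _)
      (by simp only [Iso.refl_hom, Iso.symm_hom]
          rw [Iso.eq_inv_comp]
          exact (congrArg InducedCategory.Hom.hom ht).symm)
      (by simp only [Iso.refl_hom, Iso.symm_hom]
          rw [Iso.eq_inv_comp]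
          exact (congrArg InducedCategory.Hom.hom hs).symm)
      (by exact (Category.comp_id _).trans (Category.id_comp _).symm)
      (by exact (Category.comp_id _).trans (Category.id_comp _).symm)
  have hsSm : Smooth s.left :=
    hsm e.hom (𝟙 _) s (Groth.AlgSpBasic.repWith_isIso _) (repWith_id _ _) (by rw [hs, Category.comp_id])
  have hRel := isEqvRel_of_secOf sqR
  have hiff := fun {T : Over S} (x y : T ⟶ U₀) => secOf_eq_iff sqR x y
  have hsec : ∀ {T : Over S} (r : T ⟶ R), secOf q (r ≫ t) = secOf q (r ≫ s) :=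
    fun r => (hiff _ _).2 ⟨r, rfl, rfl⟩
  have htSm : Smooth t.left := by
    let sw : (pyon S).obj R ≅ (pyon S).obj R :=
      sqR.isoIsPullback _ _ sqR.flip
    obtain ⟨σ, hσ⟩ := (pyon S).map_surjective sw.hom
    have e1 : σ ≫ s = t := (pyon S).map_injective (by
      rw [Functor.map_comp, hσ]; exact sqR.isoIsPullback_hom_fst _ _ sqR.flip)
    have : IsIso ((pyon S).map σ) := by rw [hσ]; infer_instance
    have : IsIso σ := isIso_of_fully_faithful (pyon S) σ
    have : IsIso σ.left := inferInstanceAs (IsIso ((Over.forget S).map σ))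
    rw [← e1, Over.comp_left]
    infer_instance
  have lift : ∀ {Z : Scheme.{u}} (x y : Z ⟶ R.left), x ≫ s.left = y ≫ s.left →
      y ≫ R.hom = x ≫ R.hom := fun x y e => by
    rw [← Over.w s, ← Category.assoc, ← Category.assoc, e]
  refine ⟨R, t, s, sqR, ⟨hsSm, htSm, fun {Z} x y e₁ e₂ => ?_, ?_, fun {Z} x y e₁ => ?_,
    fun {Z} x m e₁ => ?_⟩⟩
  · exact congrArg CommaMorphism.left (hRel.injective (Over.mk (x ≫ R.hom)) (Over.homMk x)
      (Over.homMk y (lift x y e₁)) (Over.OverMorphism.ext e₂) (Over.OverMorphism.ext e₁))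
  · obtain ⟨r, hr₁, hr₂⟩ := (hRel.equivalence U₀).refl (𝟙 U₀)
    exact ⟨r.left, congrArg CommaMorphism.left hr₂, congrArg CommaMorphism.left hr₁⟩
  · let T := Over.mk (x ≫ R.hom)
    let x' : T ⟶ R := Over.homMk x
    let y' : T ⟶ R := Over.homMk y (lift x y e₁)
    have e' : x' ≫ s = y' ≫ s := Over.OverMorphism.ext e₁
    obtain ⟨m, hm₁, hm₂⟩ := (hiff (y' ≫ t) (x' ≫ t)).1 (by rw [hsec, hsec, e'])
    exact ⟨m.left, congrArg CommaMorphism.left hm₂, congrArg CommaMorphism.left hm₁⟩
  · let T := Over.mk (x ≫ R.hom)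
    let x' : T ⟶ R := Over.homMk x
    let m' : T ⟶ R := Over.homMk m (by
      show m ≫ R.hom = x ≫ R.hom
      conv_lhs => rw [← Over.w s]
      rw [← reassoc_of% e₁, Over.w t])
    have e' : x' ≫ t = m' ≫ s := Over.OverMorphism.ext e₁
    obtain ⟨y, hy₁, hy₂⟩ := (hiff (m' ≫ t) (x' ≫ s)).1 (by rw [hsec, ← e', hsec])
    exact ⟨y.left, congrArg CommaMorphism.left hy₂, congrArg CommaMorphism.left hy₁⟩

/-- An etale sheaf with a smooth cover by an algebraic space has an etale chart. -/
theorem exists_etale_chart_of_smooth_cover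
    (hp : RepBySpWith (IsSurjectiveMor ⊓ LocP @Smooth) p) :
    ∃ (R W : Over S) (t s : R ⟶ W) (π : (pyon S).obj W ⟶ F) (g : (pyon S).obj W ⟶ U.obj.obj),
      g ≫ p = π ∧ Etale s.left ∧ Etale t.left ∧
        IsPullback ((pyon S).map t) ((pyon S).map s) π π ∧
        Presheaf.IsLocallySurjective (Jet S) π := by
  obtain ⟨U₀, a, hae, has⟩ := U.property.atlas
  obtain ⟨R, t, s, sq, hrel⟩ := exists_smooth_rel hae hp
  obtain ⟨W₀, g₀, hE, hSurj⟩ := Groth.SmoothSlice.exists_slice_surjective hrel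
  let W : Over S := Over.mk (g₀ ≫ U₀.hom)
  let g : W ⟶ U₀ := Over.homMk g₀
  let X : Over S := Over.mk (pullback.snd g₀ t.left ≫ R.hom)
  let xr : X ⟶ R := Over.homMk (pullback.snd g₀ t.left)
  let xw : X ⟶ W := Over.homMk (pullback.fst g₀ t.left) (by
    show pullback.fst g₀ t.left ≫ g₀ ≫ U₀.hom = _
    rw [pullback.condition_assoc, Over.w t]; rfl)
  let σ : X ⟶ U₀ := xr ≫ s
  have hσE : Etale σ.left := hE
  have hσS : Surjective σ.left := hSurj
  let R' : Over S := Over.mk (pullback.snd σ.left g₀ ≫ W.hom)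
  let rw' : R' ⟶ W := Over.homMk (pullback.snd σ.left g₀)
  let rx : R' ⟶ X := Over.homMk (pullback.fst σ.left g₀) (by
    show pullback.fst σ.left g₀ ≫ X.hom = pullback.snd σ.left g₀ ≫ g₀ ≫ U₀.hom
    rw [← Over.w σ, pullback.condition_assoc])
  have sq₁ : IsPullback ((pyon S).map xw) ((pyon S).map xr) ((pyon S).map g) ((pyon S).map t) := by
    refine IsPullback.map (pyon S) (IsPullback.of_map (Over.forget S) ?_ ?_)
    · exact Over.OverMorphism.ext pullback.condition
    · exact IsPullback.of_hasPullback g₀ t.left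
  have sq₂ : IsPullback ((pyon S).map rx) ((pyon S).map rw') ((pyon S).map σ) ((pyon S).map g) := by
    refine IsPullback.map (pyon S) (IsPullback.of_map (Over.forget S) ?_ ?_)
    · exact Over.OverMorphism.ext pullback.condition
    · exact IsPullback.of_hasPullback σ.left g₀
  let π : (pyon S).obj W ⟶ F := (pyon S).map g ≫ a.hom ≫ p
  have sqX : IsPullback ((pyon S).map xw) ((pyon S).map σ) π (a.hom ≫ p) := by
    have := sq₁.paste_vert sq
    rwa [← Functor.map_comp] at this
  have sqR' : IsPullback ((pyon S).map (rx ≫ xw)) ((pyon S).map rw') π π := by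
    have := sq₂.paste_horiz sqX
    rwa [← Functor.map_comp] at this
  have hs' : Etale rw'.left := inferInstanceAs (Etale (pullback.snd σ.left g₀))
  have ht' : Etale (rx ≫ xw).left := by
    let sw : (pyon S).obj R' ≅ (pyon S).obj R' := sqR'.isoIsPullback _ _ sqR'.flip
    obtain ⟨ι, hι⟩ := (pyon S).map_surjective sw.hom
    have e1 : ι ≫ rw' = rx ≫ xw := (pyon S).map_injective (by
      rw [Functor.map_comp, hι]; exact sqR'.isoIsPullback_hom_fst _ _ sqR'.flip)
    have : IsIso ((pyon S).map ι) := by rw [hι]; infer_instance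
    have : IsIso ι := isIso_of_fully_faithful (pyon S) ι
    have : IsIso ι.left := inferInstanceAs (IsIso ((Over.forget S).map ι))
    rw [← e1, Over.comp_left]
    infer_instance
  refine ⟨R', W, rx ≫ xw, rw', π, (pyon S).map g ≫ a.hom, Category.assoc _ _ _, hs', ht', sqR', ⟨?_⟩⟩
  intro T ξ
  obtain ⟨W₁, l, α, hl, hls, hα⟩ := exists_smooth_lift hae has hp ξ
  let P : Over S := Over.mk (pullback.snd σ.left α.left ≫ W₁.hom)
  let pw : P ⟶ W₁ := Over.homMk (pullback.snd σ.left α.left)
  let px : P ⟶ X := Over.homMk (pullback.fst σ.left α.left) (by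
    show pullback.fst σ.left α.left ≫ X.hom = pullback.snd σ.left α.left ≫ W₁.hom
    rw [← Over.w σ, ← Over.w α, pullback.condition_assoc])
  have hcomm : px ≫ σ = pw ≫ α := Over.OverMorphism.ext pullback.condition
  have : Etale pw.left := inferInstanceAs (Etale (pullback.snd σ.left α.left))
  have : Surjective pw.left := inferInstanceAs (Surjective (pullback.snd σ.left α.left))
  have : Smooth (pw ≫ l).left := by rw [Over.comp_left]; infer_instance
  have : Surjective (pw ≫ l).left := by rw [Over.comp_left]; infer_instance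
  have hπ : secOf π (px ≫ xw) = F.map (pw ≫ l).op ξ := by
    have e := congr(($(sqX.w)).app (op P) ⟨px⟩)
    calc secOf π (px ≫ xw) = secOf (a.hom ≫ p) (px ≫ σ) := e
      _ = secOf (a.hom ≫ p) (pw ≫ α) := by rw [hcomm]
      _ = F.map (pw ≫ l).op ξ := by
        rw [← secOf_map, hα, op_comp, Functor.map_comp_apply]
  refine mem_Jet_of_forall fun x => ?_
  obtain ⟨y, rfl⟩ := (pw ≫ l).left.surjective x
  obtain ⟨E, h, z, hE', hz⟩ := Groth.SmoothSlice.exists_etale_section (pw ≫ l).left y
  let E' : Over S := Over.mk (h ≫ P.hom)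
  let h' : E' ⟶ P := Over.homMk h
  refine ⟨E', h' ≫ pw ≫ l, hE', ⟨z, hz⟩, ⟨⟨h' ≫ px ≫ xw⟩, ?_⟩⟩
  show secOf π (h' ≫ px ≫ xw) = F.map (h' ≫ pw ≫ l).op ξ
  rw [← secOf_map, hπ, op_comp (f := h'), Functor.map_comp_apply]

/-- An etale sheaf with a smooth cover by an algebraic space is an algebraic space. -/
theorem isAlgSpaceP_of_smooth_cover (hF : Presheaf.IsSheaf (Jet S) F)
    (hp : RepBySpWith (IsSurjectiveMor ⊓ LocP @Smooth) p) : IsAlgSpaceP F := by
  obtain ⟨R, W, t, s, π, -, -, hs, ht, sq, hloc⟩ := exists_etale_chart_of_smooth_cover hp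
  obtain ⟨h, hA, -⟩ := exists_isAlgSpace_of_etale_chart hF sq hloc
  exact ⟨h, hA⟩

/-- An etale sheaf with an etale surjective representable map from a scheme is an algebraic space. -/
theorem isAlgSpaceP_of_representable_chart (hF : Presheaf.IsSheaf (Jet S) F) {U : Over S}
    {p : (pyon S).obj U ⟶ F}
    (he : (MorphismProperty.inverseImage @Etale (Over.forget S)).relative (pyon S) p)
    (hs : (MorphismProperty.inverseImage @Surjective (Over.forget S)).relative (pyon S) p) :
    IsAlgSpaceP F := by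
  obtain ⟨R, s, t', sq⟩ := he.rep p
  obtain ⟨t, rfl⟩ := (pyon S).map_surjective t'
  have hsE : Etale s.left := he.property _ _ s sq
  have htE : Etale t.left := he.property _ _ t sq.flip
  obtain ⟨h, hA, -⟩ := exists_isAlgSpace_of_etale_chart hF sq ⟨fun {T} ξ => by
    obtain ⟨V, snd, fst, sqV⟩ := he.rep (pEquiv.symm ξ)
    obtain ⟨α, rfl⟩ := (pyon S).map_surjective fst
    have : Etale snd.left := he.property _ _ snd sqV
    have : Surjective snd.left := hs.property _ _ snd sqV
    refine mem_Jet_of_surjective snd ⟨⟨α⟩, ?_⟩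
    have e := sqV.w
    rw [← Groth.AlgSpBasic.pEquiv_symm_map] at e
    have e' := congrArg pEquiv e
    rw [Equiv.apply_symm_apply] at e'
    refine Eq.trans ?_ e'
    simp [pEquiv, uliftYonedaEquiv]⟩
  exact ⟨h, hA⟩

end

end Groth.AlgSpBoot
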